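import Groth.Agent.H33.Glue.MapDComp
import Groth.Agent.H5.PerfectTriangle
import Groth.Agent.H5.HomVan.MV
import Groth.Prelude.Def_CxOX

/-!
# Transport along isomorphisms of schemes for `D(O_X)`

* `restrictDId : restrictD (𝟙 X) ≅ 𝟭`.
* `isPerfect_restrictD`: restriction along an open immersion preserves perfect objects.
* `key_of_iso`: the factorisation property (maps from a perfect object to an object of `D_QCoh`
  vanishing on `U` factor through a perfect object vanishing on `U`) transports along isomorphisms.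
-/

set_option autoImplicit false
set_option linter.style.haveILetI false

universe u w₁ v₁ u₁

open CategoryTheory Category Limits Pretriangulated AlgebraicGeometry

namespace Groth.Agent.H5.Lift.Transport

section general

variable {C₁ : Type u₁} [Category.{v₁} C₁] [Abelian C₁] [HasDerivedCategory.{w₁} C₁]
  (F : C₁ ⥤ C₁) [F.Additive] [PreservesFiniteLimits F] [PreservesFiniteColimits F]

/-- an exact endofunctor isomorphic to the identity induces the identity on the derived category -/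
noncomputable def mapDerivedCategoryIdIso (e : F ≅ 𝟭 C₁) :
    F.mapDerivedCategory ≅ 𝟭 (DerivedCategory C₁) :=
  letI : Localization.Lifting DerivedCategory.Q
      (HomologicalComplex.quasiIso C₁ (ComplexShape.up ℤ))
      (F.mapHomologicalComplex (ComplexShape.up ℤ) ⋙ DerivedCategory.Q) F.mapDerivedCategory :=
    ⟨F.mapDerivedCategoryFactors⟩
  letI : Localization.Lifting DerivedCategory.Q
      (HomologicalComplex.quasiIso C₁ (ComplexShape.up ℤ))
      DerivedCategory.Q (𝟭 (DerivedCategory C₁)) :=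
    ⟨Functor.rightUnitor _⟩
  Localization.liftNatIso DerivedCategory.Q
    (HomologicalComplex.quasiIso C₁ (ComplexShape.up ℤ))
    (F.mapHomologicalComplex (ComplexShape.up ℤ) ⋙ DerivedCategory.Q) DerivedCategory.Q _ _
    (Functor.isoWhiskerRight (NatIso.mapHomologicalComplex e (ComplexShape.up ℤ) ≪≫
      Functor.mapHomologicalComplexIdIso _ _) DerivedCategory.Q ≪≫ Functor.leftUnitor _)

end general

attribute [local instance] HasDerivedCategory.standard

open Groth.Agent.H5.PerfectTriangle Scheme.Modules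

variable {X Y : Scheme.{u}}

/-- restriction along the identity is the identity -/
noncomputable def restrictDId (X : Scheme.{u}) : DCoh.restrictD (𝟙 X) ≅ 𝟭 (DCoh.D X) :=
  mapDerivedCategoryIdIso _ restrictFunctorId

/-- `φ^* (φ⁻¹)^* ≅ 𝟭` -/
lemma nonempty_inv_hom (φ : X ≅ Y) :
    Nonempty (DCoh.restrictD φ.inv ⋙ DCoh.restrictD φ.hom ≅ 𝟭 (DCoh.D X)) := by
  obtain ⟨e⟩ := Groth.Agent.H33.Glue.nonempty_restrictD_iso_of_fac φ.hom φ.inv (𝟙 X)
    φ.hom_inv_id
  exact ⟨e.symm ≪≫ restrictDId X⟩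

/-- restriction along an open immersion preserves perfect objects -/
theorem isPerfect_restrictD {W : Scheme.{u}} (g : W ⟶ X) [IsOpenImmersion g] (K : DCoh.D X)
    (hK : DCoh.IsPerfect K) : DCoh.IsPerfect ((DCoh.restrictD g).obj K) := by
  obtain ⟨M, ⟨e⟩⟩ : ∃ M : CochainComplex X.Modules ℤ, Nonempty (DerivedCategory.Q.obj M ≅ K) :=
    ⟨_, ⟨DerivedCategory.Q.objObjPreimageIso K⟩⟩
  have hM := (isPerfect_iff_of_iso e).1 hK
  have e' : DerivedCategory.Q.obj
      (((restrictFunctor g).mapHomologicalComplex (ComplexShape.up ℤ)).obj M) ≅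
      (DCoh.restrictD g).obj K :=
    ((restrictFunctor g).mapDerivedCategoryFactors.app M).symm ≪≫ (DCoh.restrictD g).mapIso e
  refine isPerfect_of_isSPAlong e' (fun x => ?_)
  obtain ⟨V, hxV, hV⟩ := hM (g x)
  refine ⟨(g ⁻¹ᵁ V : Scheme.{u}), (g ⁻¹ᵁ V).ι, inferInstance, ⟨⟨x, hxV⟩, rfl⟩, ?_⟩
  have h1 : IsSPAlong ((g ∣_ V) ≫ V.ι) M := isSPAlong_comp (g ∣_ V) V.ι M hV
  have h2 : IsSPAlong ((g ⁻¹ᵁ V).ι ≫ g) M := isSPAlong_congr (morphismRestrict_ι g V) M h1
  obtain ⟨E, hE, ⟨i⟩⟩ := h2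
  refine ⟨E, hE, ⟨?_ ≪≫ i⟩⟩
  exact DerivedCategory.Q.mapIso ((NatIso.mapHomologicalComplex
    (restrictFunctorComp (g ⁻¹ᵁ V).ι g) (ComplexShape.up ℤ)).app M).symm

/-- the factorisation property -/
def Key (X : Scheme.{u}) (U : X.Opens) : Prop :=
  ∀ (E C : DCoh.D X), DCoh.IsPerfect E → DCoh.IsQCohD C →
    IsZero ((DCoh.restrictD U.ι).obj C) → ∀ g : E ⟶ C,
    ∃ (E'' : DCoh.D X) (p : E ⟶ E'') (q : E'' ⟶ C), DCoh.IsPerfect E'' ∧
      IsZero ((DCoh.restrictD U.ι).obj E'') ∧ p ≫ q = g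

/-- **Transport of the factorisation property along an isomorphism.** -/
theorem key_of_iso (φ : X ≅ Y) (U : X.Opens) (U' : Y.Opens) (hUU' : φ.hom ⁻¹ᵁ U' = U)
    (hY : Key Y U') : Key X U := by
  subst hUU'
  intro E C hE hC hz g
  let F := DCoh.restrictD φ.hom
  let F' := DCoh.restrictD φ.inv
  obtain ⟨η⟩ := nonempty_inv_hom φ
  let ψ : (φ.hom ⁻¹ᵁ U' : Scheme.{u}) ⟶ (U' : Scheme.{u}) := φ.hom ∣_ U'
  have hψ : ψ ≫ U'.ι = (φ.hom ⁻¹ᵁ U').ι ≫ φ.hom := morphismRestrict_ι φ.hom U'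
  have hψ' : inv ψ ≫ (φ.hom ⁻¹ᵁ U').ι = U'.ι ≫ φ.inv := by
    rw [IsIso.inv_comp_eq, ← Category.assoc, hψ, Category.assoc, φ.hom_inv_id, Category.comp_id]
  -- the restriction of `F' C` to `U'` vanishes
  have hz' : IsZero ((DCoh.restrictD U'.ι).obj (F'.obj C)) := by
    obtain ⟨e1⟩ := Groth.Agent.H33.Glue.nonempty_restrictD_iso_of_fac U'.ι φ.inv
      (U'.ι ≫ φ.inv) rfl
    obtain ⟨e2⟩ := Groth.Agent.H33.Glue.nonempty_restrictD_iso_of_fac (inv ψ)
      (φ.hom ⁻¹ᵁ U').ι (U'.ι ≫ φ.inv) hψ'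
    exact IsZero.of_iso ((DCoh.restrictD (inv ψ)).map_isZero hz)
      ((e1.app C).symm ≪≫ e2.app C)
  obtain ⟨E₀, p', q', hE₀, hz₀, hpq⟩ := hY (F'.obj E) (F'.obj C)
    (isPerfect_restrictD φ.inv E hE)
    (Groth.Agent.H5.HomVan.MV.isQCohD_restrictD φ.inv C hC) hz' (F'.map g)
  refine ⟨F.obj E₀, η.inv.app E ≫ F.map p', F.map q' ≫ η.hom.app C,
    isPerfect_restrictD φ.hom E₀ hE₀, ?_, ?_⟩
  · obtain ⟨e1⟩ := Groth.Agent.H33.Glue.nonempty_restrictD_iso_of_fac (φ.hom ⁻¹ᵁ U').ι φ.hom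
      ((φ.hom ⁻¹ᵁ U').ι ≫ φ.hom) rfl
    obtain ⟨e2⟩ := Groth.Agent.H33.Glue.nonempty_restrictD_iso_of_fac ψ U'.ι
      ((φ.hom ⁻¹ᵁ U').ι ≫ φ.hom) hψ
    exact IsZero.of_iso ((DCoh.restrictD ψ).map_isZero hz₀)
      ((e1.app E₀).symm ≪≫ e2.app E₀)
  · rw [Category.assoc, ← F.map_comp_assoc, hpq]
    have h := η.hom.naturality g
    simp only [Functor.comp_map, Functor.id_map] at h
    change η.inv.app E ≫ (DCoh.restrictD φ.hom).map ((DCoh.restrictD φ.inv).map g) ≫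
      η.hom.app C = g
    rw [h, ← Category.assoc, ← NatTrans.comp_app, η.inv_hom_id]
    exact Category.id_comp g

end Groth.Agent.H5.Lift.Transport
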