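import Groth.Agent.H5.Lift.RingKey
import Groth.Agent.H5.Lift.Transport
import Groth.Agent.H5.Kosz.Unit
import Groth.Agent.H5.DQ.K0Tilde
import Groth.Agent.H47.TildeExact
import Groth.Agent.S1105

/-!
# The factorisation property on affine schemes

`X` affine, `U ⊆ X` a quasi-compact open: a map from a perfect object to an object of `D_QCoh`
vanishing on `U` factors through a perfect object vanishing on `U`.
-/

set_option autoImplicit false
set_option linter.style.haveILetI false

universe u

open CategoryTheory Category Limits Pretriangulated DerivedCategory AlgebraicGeometry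

attribute [local instance] HasDerivedCategory.standard

namespace Groth.Agent.H5.Lift.AffineKey

open Groth.Agent.H5.Kosz.Ring Groth.Agent.H5.Kosz.Bridge Groth.Agent.H5.Kosz.Unit
  Groth.Agent.H5.Lift.RingKey Groth.Agent.H5.Lift.Transport

/-- the factorisation property on `Spec R` for the complement of `V(fs)` -/
theorem key_spec (R : CommRingCat.{u}) (fs : List R) :
    Key (Spec (CommRingCat.of R)) (UU R fs) := by
  haveI := Groth.Agent.H47.tilde_preservesFiniteLimits R
  intro E C hE hC hz g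
  obtain ⟨hfull, hfaith, hess⟩ := Groth.Agent.H5.DQ.Main.main R
  obtain ⟨P, ⟨eP⟩⟩ := (hess E).1 (Groth.Agent.H5.DQ.K0Tilde.isQCohD_of_isPerfect E hE)
  obtain ⟨N, ⟨eN⟩⟩ := (hess C).1 hC
  have hP : DRing.IsPerfect R P :=
    (Groth.Agent.S1105.result R P).1 (Groth.Agent.H5.PerfectTriangle.isPerfect_of_iso eP.symm hE)
  have hN : ∀ f ∈ fs, Tors f N := fun f hf =>
    tors_of_isZero_restrictD R _ N
      (IsZero.of_iso hz ((DCoh.restrictD (UU R fs).ι).mapIso eN)) f (Ideal.subset_span hf)
  obtain ⟨g₀, hg₀⟩ := (DCoh.tildeD R).map_surjective (eP.hom ≫ g ≫ eN.inv)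
  obtain ⟨P'', p, q, hP'', ht, hpq⟩ := exists_factor_perfect fs P N hP hN g₀
  refine ⟨(DCoh.tildeD R).obj P'', eP.inv ≫ (DCoh.tildeD R).map p,
    (DCoh.tildeD R).map q ≫ eN.hom, (Groth.Agent.S1105.result R P'').2 hP'', ?_, ?_⟩
  · exact isZero_restrictD_of_tors R {a | a ∈ fs} P'' (fun f hf => tors_of_idTors (ht f hf))
  · rw [Category.assoc, ← Functor.map_comp_assoc, hpq, hg₀]
    simp

/-- a quasi-compact open of `Spec R` is the complement of `V(fs)` for a finite list `fs` -/
lemma exists_eq_UU (R : CommRingCat.{u}) (U' : (Spec (CommRingCat.of R)).Opens)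
    (hU' : IsCompact (U' : Set (Spec (CommRingCat.of R)))) : ∃ fs : List R, UU R fs = U' := by
  classical
  obtain ⟨t, ht⟩ := (PrimeSpectrum.isCompact_isOpen_iff (R := R)
    (s := (U' : Set (Spec (CommRingCat.of R))))).1 ⟨hU', U'.2⟩
  refine ⟨t.toList, ?_⟩
  apply TopologicalSpace.Opens.ext
  change (PrimeSpectrum.zeroLocus ((Ideal.span {a | a ∈ t.toList} : Ideal R) : Set R))ᶜ = _
  rw [PrimeSpectrum.zeroLocus_span, ← ht]
  congr 2
  ext a
  simp

/-- **The factorisation property on an affine scheme.** -/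
theorem key_affine (X : Scheme.{u}) [IsAffine X] (U : X.Opens) (hU : IsCompact (U : Set X)) :
    Key X U := by
  let R : CommRingCat.{u} := Γ(X, ⊤)
  let φ : X ≅ Spec (CommRingCat.of R) := X.isoSpec
  let U' : (Spec (CommRingCat.of R)).Opens := φ.inv ⁻¹ᵁ U
  have hU' : IsCompact (U' : Set (Spec (CommRingCat.of R))) := by
    have h1 : (U' : Set (Spec (CommRingCat.of R))) = φ.hom.base '' (U : Set X) := by
      ext y
      constructor
      · intro hy
        refine ⟨φ.inv.base y, hy, ?_⟩
        rw [← Scheme.Hom.comp_apply, φ.inv_hom_id]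
        rfl
      · rintro ⟨x, hx, rfl⟩
        change φ.inv.base (φ.hom.base x) ∈ U
        rw [← Scheme.Hom.comp_apply, φ.hom_inv_id]
        exact hx
    rw [h1]
    exact hU.image φ.hom.continuous
  obtain ⟨fs, hfs⟩ := exists_eq_UU R U' hU'
  refine key_of_iso φ U (UU R fs) ?_ (key_spec R fs)
  rw [hfs]
  ext x
  change φ.inv.base (φ.hom.base x) ∈ U ↔ x ∈ U
  rw [← Scheme.Hom.comp_apply, φ.hom_inv_id]
  rfl

end Groth.Agent.H5.Lift.AffineKey
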