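import Groth.Agent.H5.Lift.AffineKey
import Groth.Agent.H33.LocCoh.UnitIso
import Groth.Agent.H33.Supp.Main
import Groth.Agent.H16.RpushQCoh

/-!
# Lifting maps out of perfect objects over a quasi-compact open of an affine scheme
-/

set_option autoImplicit false
set_option linter.style.haveILetI false

universe u

open CategoryTheory Category Limits Pretriangulated DerivedCategory AlgebraicGeometry

attribute [local instance] HasDerivedCategory.standard

namespace Groth.Agent.H5.Lift.Main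

open Groth.Agent.H5.Lift.Transport Groth.Agent.H5.Lift.AffineKey

theorem main (X : Scheme.{u}) [IsAffine X] (U : X.Opens) (hU : IsCompact (U : Set X))
    (E E' : DCoh.D X) (hE : DCoh.IsPerfect E) (hE' : DCoh.IsQCohD E')
    (α : (DCoh.restrictD U.ι).obj E ⟶ (DCoh.restrictD U.ι).obj E') :
    ∃ (E₁ : DCoh.D X) (β : E₁ ⟶ E) (γ : E₁ ⟶ E'), DCoh.IsPerfect E₁ ∧
      IsIso ((DCoh.restrictD U.ι).map β) ∧
      (DCoh.restrictD U.ι).map β ≫ α = (DCoh.restrictD U.ι).map γ := by
  haveI : DCoh.HasRpush U.ι := Groth.Agent.H33.Supp.hasRpush _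
  haveI : QuasiCompact U.ι := by
    rw [quasiCompact_iff_compactSpace]
    exact isCompact_iff_compactSpace.1 hU
  let adj := Groth.Agent.H33.LocCoh.dadj U.ι
  let j := DCoh.restrictD U.ι
  let Rj := DCoh.Rpush U.ι
  let α' : E ⟶ Rj.obj (j.obj E') := adj.homEquiv E (j.obj E') α
  obtain ⟨C, v, w, hT⟩ := distinguished_cocone_triangle (adj.unit.app E')
  have hC : DCoh.IsQCohD C :=
    Groth.Agent.H5.Kosz.QCohTri.isQCohD_obj₃ _ hT hE'
      (Groth.Agent.H16.RpushQCoh.isQCohD_Rpush U.ι _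
        (Groth.Agent.H5.HomVan.MV.isQCohD_restrictD U.ι E' hE'))
  -- `j^* C = 0`
  have hT' := j.map_distinguished _ hT
  have h1 := adj.left_triangle_components E'
  have h2 : IsIso (j.map (adj.unit.app E')) := by
    have : IsIso (j.map (adj.unit.app E') ≫ adj.counit.app (j.obj E')) := by
      rw [h1]; exact IsIso.id _
    exact IsIso.of_isIso_comp_right _ (adj.counit.app (j.obj E'))
  have hz : IsZero (j.obj C) := (Triangle.isZero₃_iff_isIso₁ _ hT').2 h2
  -- factor `α' ≫ v` through a perfect object vanishing on `U`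
  obtain ⟨E'', p, q, hE'', hz'', hpq⟩ := key_affine X U hU E C hE hC hz (α' ≫ v)
  obtain ⟨E₁, β, h, hT₁⟩ := distinguished_cocone_triangle₁ p
  have hE₁ : DCoh.IsPerfect E₁ :=
    (Groth.Agent.H5.PerfectTriangle.two_out_of_three _ hT₁).2.2 hE hE''
  have hβ : IsIso (j.map β) :=
    (Triangle.isZero₃_iff_isIso₁ _ (j.map_distinguished _ hT₁)).1 hz''
  have h3 : (β ≫ α') ≫ v = 0 := by
    rw [Category.assoc, ← hpq, ← Category.assoc]
    have : β ≫ p = 0 := comp_distTriang_mor_zero₁₂ _ hT₁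
    rw [this, zero_comp]
  obtain ⟨γ, hγ⟩ : ∃ γ : E₁ ⟶ E', β ≫ α' = γ ≫ adj.unit.app E' :=
    Triangle.coyoneda_exact₂ _ hT (β ≫ α') h3
  refine ⟨E₁, β, γ, hE₁, hβ, ?_⟩
  have h4 : α = j.map α' ≫ adj.counit.app (j.obj E') := by
    have := adj.homEquiv_counit (X := E) (Y := j.obj E') (g := α')
    rw [← this]
    exact ((adj.homEquiv E (j.obj E')).symm_apply_apply α).symm
  rw [h4, ← Category.assoc, ← j.map_comp, hγ, j.map_comp, Category.assoc]
  erw [h1]
  exact Category.comp_id _

end Groth.Agent.H5.Lift.Main
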