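import Groth.Agent.H5.Kosz.Factor
import Groth.Agent.H33.PCPush.AbsTerm
import Groth.Agent.S7028

/-!
# Ring side of the lifting lemma for maps out of perfect complexes

`A` a ring, `fs` a finite list of elements.  A map `g : P ⟶ N` in `D(A)` from a perfect object to an
object whose cohomology is `f`-power torsion for all `f ∈ fs` factors through a perfect object `P''`
such that a power of each `f ∈ fs` kills `𝟙 P''`.
-/

set_option autoImplicit false
set_option linter.style.haveILetI false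

universe u

open CategoryTheory Category Limits Pretriangulated DerivedCategory

attribute [local instance] HasDerivedCategory.standard

namespace Groth.Agent.H5.Lift.RingKey

open Groth.Agent.H5.Kosz.Ring Groth.Agent.H5.Kosz.Factor

variable {A : Type u} [CommRing A]

/-- shift invariance of `HomTors` in the source, arbitrary shifts -/
lemma HomTors.shift' {f : A} {P N : DerivedCategory (ModuleCat.{u} A)} (h : HomTors f P N)
    (n : ℤ) : HomTors f (P⟦n⟧) N := by
  intro j g
  let a : P ≅ (P⟦n⟧)⟦(-n : ℤ)⟧ :=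
    (shiftFunctorCompIsoId (DerivedCategory (ModuleCat.{u} A)) n (-n)
      (by omega)).symm.app P
  let b : (N⟦j⟧)⟦(-n : ℤ)⟧ ≅ N⟦j - n⟧ :=
    ((shiftFunctorAdd' (DerivedCategory (ModuleCat.{u} A)) j (-n) (j - n) (by omega)).app N).symm
  obtain ⟨l, hl⟩ := h (j - n) (a.hom ≫ g⟦(-n : ℤ)⟧' ≫ b.hom)
  refine ⟨l, ?_⟩
  rw [← Linear.comp_smul, ← Linear.smul_comp] at hl
  have h1 := (cancel_epi a.hom).1 (hl.trans comp_zero.symm)
  have h2 := (cancel_mono b.hom).1 (h1.trans zero_comp.symm)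
  rw [← Functor.map_smul] at h2
  apply (shiftFunctor (DerivedCategory (ModuleCat.{u} A)) (-n : ℤ)).map_injective
  rw [h2, Functor.map_zero]

/-- `HomTors` for the middle vertex of a triangle -/
theorem HomTors.of_triangle₂ {f : A} {N : DerivedCategory (ModuleCat.{u} A)}
    (T : Triangle (DerivedCategory (ModuleCat.{u} A)))
    (hT : T ∈ distTriang (DerivedCategory (ModuleCat.{u} A)))
    (h1 : HomTors f T.obj₁ N) (h3 : HomTors f T.obj₃ N) : HomTors f T.obj₂ N := by
  intro j φ
  obtain ⟨k, hk⟩ := h1 j (T.mor₁ ≫ φ)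
  rw [← Linear.comp_smul] at hk
  obtain ⟨g, hg⟩ := Triangle.yoneda_exact₂ T hT (f ^ k • φ) hk
  obtain ⟨l, hl⟩ := h3 j g
  refine ⟨l + k, ?_⟩
  rw [pow_add, mul_smul, hg, ← Linear.comp_smul, hl, comp_zero]

lemma HomTors.of_isZero {f : A} {P N : DerivedCategory (ModuleCat.{u} A)} (hP : IsZero P) :
    HomTors f P N := by
  intro j φ
  exact ⟨0, hP.eq_of_src _ _⟩

/-- `A` placed in degree `i` -/
lemma homTors_single_self (f : A) (N : DerivedCategory (ModuleCat.{u} A)) (hN : Tors f N)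
    (i : ℤ) : HomTors f ((singleFunctor (ModuleCat.{u} A) i).obj (ModuleCat.of A A)) N :=
  HomTors.of_iso (((singleFunctors (ModuleCat.{u} A)).shiftIso (-i) i 0 (by omega)).app
    (ModuleCat.of A A)) (HomTors.shift' (homTors_T₀ f N hN) (-i))

/-- a finite projective module placed in degree `i` -/
theorem homTors_single_of_finite_projective (f : A) (N : DerivedCategory (ModuleCat.{u} A))
    (hN : Tors f N) (M : ModuleCat.{u} A) [Module.Finite A M] [Module.Projective A M] (i : ℤ) :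
    HomTors f ((singleFunctor (ModuleCat.{u} A) i).obj M) N := by
  classical
  obtain ⟨n, r, s, -, -, hrs⟩ := Module.Finite.exists_comp_eq_id_of_projective A M
  intro j φ
  let S := singleFunctor (ModuleCat.{u} A) i
  let a : Fin n → (ModuleCat.of A A ⟶ M) := fun m =>
    ModuleCat.ofHom (r ∘ₗ LinearMap.single A (fun _ : Fin n => A) m)
  let b : Fin n → (M ⟶ ModuleCat.of A A) := fun m =>
    ModuleCat.ofHom (LinearMap.proj m ∘ₗ s)
  have hsum : 𝟙 M = ∑ m, b m ≫ a m := by
    apply ModuleCat.hom_ext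
    apply LinearMap.ext
    intro y
    rw [ModuleCat.hom_sum, LinearMap.sum_apply]
    have h1 : ∀ m : Fin n, (b m ≫ a m).hom y = r (Pi.single m (s y m)) := fun m => rfl
    simp only [h1]
    have h4 : ∑ m, Pi.single (M := fun _ : Fin n => A) m (s y m) = s y :=
      LinearMap.sum_single_apply (φ := fun _ : Fin n => A) (s y)
    rw [← map_sum, h4]
    exact (LinearMap.congr_fun hrs y).symm
  choose k hk using fun m => homTors_single_self f N hN i j (S.map (a m) ≫ φ)
  refine ⟨∑ m, k m, ?_⟩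
  have h2 : φ = ∑ m, S.map (b m) ≫ S.map (a m) ≫ φ := by
    have : S.map (𝟙 M) ≫ φ = φ := by rw [S.map_id, Category.id_comp]
    conv_lhs => rw [← this, hsum, Functor.map_sum, Preadditive.sum_comp]
    refine Finset.sum_congr rfl (fun m _ => ?_)
    rw [S.map_comp, Category.assoc]
  rw [h2, Finset.smul_sum]
  refine Finset.sum_eq_zero (fun m _ => ?_)
  have h3 : ∑ m, k m = (∑ m, k m - k m) + k m :=
    (Nat.sub_add_cancel (Finset.single_le_sum (f := k) (fun _ _ => Nat.zero_le _)
      (Finset.mem_univ m))).symm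
  rw [h3, pow_add, mul_smul, ← Linear.comp_smul, hk m, comp_zero, smul_zero]

/-- **`HomTors` for perfect objects.** -/
theorem homTors_of_isPerfect (f : A) (N : DerivedCategory (ModuleCat.{u} A)) (hN : Tors f N)
    (P : DerivedCategory (ModuleCat.{u} A)) (hP : DRing.IsPerfect A P) : HomTors f P N := by
  obtain ⟨E, a, b, hab, hfp, ⟨e⟩⟩ := hP
  refine HomTors.of_iso e ?_
  refine Groth.Agent.H33.PCPush.induction_bounded' (fun K => HomTors f K N)
    (fun _ M => Module.Finite A M ∧ Module.Projective A M)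
    ?_ (fun X hX => HomTors.of_isZero hX) (fun T hT h1 h3 => HomTors.of_triangle₂ T hT h1 h3) ?_
    E a b hab (fun i _ _ => hfp i)
  · rintro i M M' e' ⟨h1, h2⟩
    exact ⟨Module.Finite.equiv e'.toLinearEquiv, Module.Projective.of_equiv e'.toLinearEquiv⟩
  · rintro M i ⟨h1, h2⟩
    exact HomTors.of_iso ((singleFunctorIsoCompQ (ModuleCat.{u} A) i).app M)
      (homTors_single_of_finite_projective f N hN M i)

/-- a power of `f` kills the identity of `P` -/
def IdTors (f : A) (P : DerivedCategory (ModuleCat.{u} A)) : Prop := ∃ k : ℕ, f ^ k • 𝟙 P = 0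

lemma tors_of_idTors {f : A} {P : DerivedCategory (ModuleCat.{u} A)} (h : IdTors f P) :
    Tors f P := by
  obtain ⟨k, hk⟩ := h
  intro q x
  refine ⟨k, ?_⟩
  have h := Groth.Agent.H5.Kosz.Linear.homologyFunctor_map_smul_id A q (f ^ k) P
  rw [hk, Functor.map_zero] at h
  have h2 := congrArg (fun φ : (homologyFunctor (ModuleCat.{u} A) q).obj P ⟶ _ => φ.hom x) h
  simp only [ModuleCat.hom_zero, LinearMap.zero_apply, ModuleCat.hom_smul, ModuleCat.hom_id,
    LinearMap.smul_apply, LinearMap.id_coe, id_eq] at h2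
  exact h2.symm

lemma IdTors.cone {X Y : DerivedCategory (ModuleCat.{u} A)} (r s : A)
    (b : X ⟶ Y) (c : Y ⟶ X⟦(1 : ℤ)⟧)
    (hT : Triangle.mk (r • 𝟙 X) b c ∈ distTriang (DerivedCategory (ModuleCat.{u} A)))
    (h : IdTors s X) : IdTors s Y := by
  obtain ⟨k, hk⟩ := h
  refine ⟨k + k, ?_⟩
  rw [pow_add]
  refine smul_sq_eq_zero r (s ^ k) b c hT ?_ ?_
  · rw [hk, zero_comp]
  · rw [hk, Functor.map_zero, comp_zero]

lemma IdTors.cone_self {X Y : DerivedCategory (ModuleCat.{u} A)} (f : A) (k : ℕ)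
    (b : X ⟶ Y) (c : Y ⟶ X⟦(1 : ℤ)⟧)
    (hT : Triangle.mk (f ^ k • 𝟙 X) b c ∈ distTriang (DerivedCategory (ModuleCat.{u} A))) :
    IdTors f Y := by
  refine ⟨k + k, ?_⟩
  rw [pow_add]
  exact smul_sq_eq_zero (f ^ k) (f ^ k) b c hT (comp_distTriang_mor_zero₁₂ _ hT)
    (comp_distTriang_mor_zero₃₁ _ hT)

/-- **Ring-side key.** A map from a perfect object to an `fs`-torsion object factors through a
perfect object killed by powers of the elements of `fs`. -/
theorem exists_factor_perfect : ∀ (fs : List A) (P N : DerivedCategory (ModuleCat.{u} A)),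
    DRing.IsPerfect A P → (∀ f ∈ fs, Tors f N) → ∀ g : P ⟶ N,
    ∃ (P'' : DerivedCategory (ModuleCat.{u} A)) (p : P ⟶ P'') (q : P'' ⟶ N),
      DRing.IsPerfect A P'' ∧ (∀ f ∈ fs, IdTors f P'') ∧ p ≫ q = g
  | [], P, N, hP, _, g => ⟨P, 𝟙 P, g, hP, by simp, Category.id_comp g⟩
  | f :: l, P, N, hP, hN, g => by
    obtain ⟨P₁, p₁, q₁, hP₁, ht₁, h₁⟩ := exists_factor_perfect l P N hP
      (fun f' hf' => hN f' (List.mem_cons_of_mem _ hf')) g
    let i : N ≅ N⟦(0 : ℤ)⟧ := ((shiftFunctorZero _ ℤ).app N).symm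
    obtain ⟨k, hk⟩ := homTors_of_isPerfect f N (hN f List.mem_cons_self) P₁ hP₁ 0 (q₁ ≫ i.hom)
    rw [← Linear.smul_comp] at hk
    have hk' : f ^ k • q₁ = 0 := (cancel_mono i.hom).1 (hk.trans zero_comp.symm)
    obtain ⟨Y, b, c, hT⟩ := distinguished_cocone_triangle (f ^ k • 𝟙 P₁)
    obtain ⟨q', hq'⟩ := factor_of_smul_eq_zero (f ^ k) b c hT q₁ hk'
    refine ⟨Y, p₁ ≫ b, q', Groth.Agent.S7028.cone_perfect A _ hT hP₁ hP₁, ?_, ?_⟩
    · intro f' hf'
      rcases List.mem_cons.1 hf' with rfl | hf''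
      · exact IdTors.cone_self f' k b c hT
      · exact IdTors.cone (f ^ k) f' b c hT (ht₁ f' hf'')
    · rw [Category.assoc, ← hq', h₁]

end Groth.Agent.H5.Lift.RingKey
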